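import Cfsg.Agent.Lib.TF4.Data
import Cfsg.Agent.Lib.Twisted.Inst

/-!
# Finite checks for `²F₄`
-/

set_option autoImplicit false
set_option maxRecDepth 100000

namespace Cfsg.Agent.Lib.TF4

open Cfsg.Lie Cfsg.Agent.Lib.Twisted Cfsg.Agent.Lib.ChevBN.Table

/-- The word of the fundamental reflections. -/
def lw : Fin 2 → List ℕ
  | 0 => [0, 3]
  | 1 => [1, 2, 1, 2]

/-- The roots of the fundamental root subgroups. -/
def lr : Fin 2 → List ℕ
  | 0 => [24, 33]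
  | 1 => [25, 27, 28, 30]

/-- The complement. -/
def lc (j : Fin 2) : List ℕ := chevF4.posRoots.filter fun r => !(lr j).contains r

/-- The word of the longest element. -/
def lN0 : List ℕ := [0, 3, 1, 2, 1, 2, 0, 3, 1, 2, 1, 2, 0, 3, 1, 2, 1, 2, 0, 3, 1, 2, 1, 2]

/-- The action on the roots of a word. -/
abbrev fw (l : List ℕ) (r : ℕ) : ℕ := l.foldr chevF4.reflectRoot r

theorem simple_eq : chevF4.simple 0 = 33 ∧ chevF4.simple 1 = 27 ∧ chevF4.simple 2 = 25 ∧ chevF4.simple 3 = 24 := by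
  decide +kernel

theorem neg_eq : chevF4.neg 33 = 14 ∧ chevF4.neg 24 = 23 ∧ chevF4.neg 27 = 20 ∧ chevF4.neg 25 = 22 ∧
    chevF4.neg 28 = 19 ∧ chevF4.neg 30 = 17 := by decide +kernel

theorem rank_eq : chevF4.rank = 4 := by decide +kernel

theorem nroots_eq : chevF4.nroots = 48 := by decide +kernel

theorem lw_lt : ∀ j, ∀ i ∈ lw j, i < chevF4.rank := by decide +kernel

theorem lN0_lt : ∀ i ∈ lN0, i < chevF4.rank := by decide +kernel

theorem lr_closed : ∀ j, closedB chevF4 (lr j) = true := by decide +kernel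

theorem lc_closed : ∀ j, closedB chevF4 (lc j) = true := by decide +kernel

theorem comp_norm_chk : ∀ j, ∀ a ∈ lr j, ∀ s ∈ lc j, ∀ c ∈ chevF4.commTerms a s, c.1 ∉ lr j := by
  decide +kernel

theorem rho_stab : ∀ j, ∀ a ∈ lr j, ρ0 a ∈ lr j := by decide +kernel

theorem rho_stab2 : ∀ j, ∀ a ∈ lc j, ρ0 a ∉ lr j := by decide +kernel

theorem act_r : ∀ j, ∀ r ∈ lr j, ∃ r' ∈ lr j, fw (lw j) r = chevF4.neg r' := by decide +kernel

theorem act_c : ∀ j, ∀ r ∈ lc j, fw (lw j) r ∈ lc j := by decide +kernel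

theorem N0_neg : ∀ r < chevF4.nroots, fw lN0 r = chevF4.neg r := by decide +kernel

theorem hJ_chk : ∀ j, ∀ r ∈ chevF4.posRoots, (r ∈ lr j ↔ ∀ i < chevF4.rank, i ∉ lw j → cr chevF4 r i = 0) := by
  decide +kernel

theorem inj_chk : ∀ j j', j ≠ j' → fw (lw j) 33 ≠ fw (lw j') 33 := by decide +kernel

theorem cover_chk : ∀ i < chevF4.rank, ∃ j, chevF4.simple i ∈ lr j := by decide +kernel

theorem s_chk : ∀ j, ∀ r < chevF4.nroots, fw ((lw j).map π0) r = fw (lw j) r := by decide +kernel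

theorem s_chk0 : ∀ r < chevF4.nroots, fw (lN0.map π0) r = fw lN0 r := by decide +kernel

theorem clChk : clB chevF4 ρ0 cl = true := by decide +kernel

theorem flatChk : (∀ r ∈ chevF4.posRoots, r ∈ cl.flatten) ∧ ∀ r ∈ cl.flatten, chevF4.IsPosRoot r := by
  decide +kernel

/-- The height functional. -/
def hgt (j : ℕ) : ℤ := [8, 15, 21, 11].getD j 0

theorem hgt_pos : ∀ r < chevF4.nroots, (chevF4.IsPosRoot r → 0 < Ad chevF4 hgt r) ∧ (¬ chevF4.IsPosRoot r → Ad chevF4 hgt r < 0) := by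
  decide +kernel

theorem add_chk : (∀ j < chevF4.rank, chevF4.cartan j 28 = chevF4.cartan j 27 + chevF4.cartan j 25) ∧
    (∀ j < chevF4.rank, chevF4.cartan j 30 = chevF4.cartan j 27 + chevF4.cartan j 28) := by decide +kernel

theorem act_n0 : ∀ j, ∀ r ∈ lr j, fw (lN0 ++ lw j) r ∈ lr j := by decide +kernel

/-- The short root of the class. -/
def ra : Fin 2 → ℕ
  | 0 => 33
  | 1 => 27

/-- The long root of the class. -/
def rb : Fin 2 → ℕ
  | 0 => 24
  | 1 => 25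

theorem ra_chk : ∀ j, ra j < chevF4.nroots ∧ rb j < chevF4.nroots ∧ fw (lw j) (ra j) = chevF4.neg (ra j) ∧
    fw (lw j) (rb j) = chevF4.neg (rb j) ∧ ρ0 (ra j) = rb j ∧ ρ0 (rb j) = ra j ∧ isShort (ra j) = true ∧
    isShort (rb j) = false := by decide +kernel

/-- The classes, the words and the fundamental classes. -/
def certs : List (List ℕ × List (Fin 2) × Fin 2) :=
  [([24, 33], [], 0), ([26, 34, 36, 42], [0], 1), ([38, 43], [1, 0], 0), ([29, 41, 44, 47], [0, 1, 0], 1),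
   ([39, 45], [1, 0, 1], 0), ([31, 35, 40, 46], [0, 1], 1), ([32, 37], [1], 0), ([25, 27, 28, 30], [], 1)]

theorem certs_eq : certs.map Prod.fst = cl := by decide +kernel

theorem certs_chk : ∀ c ∈ certs, ∀ r ∈ c.1, fw ((c.2.1.map lw).flatten) r ∈ lr c.2.2 := by decide +kernel

theorem certs_chk2 : ∀ c ∈ certs, ∀ r ∈ lr c.2.2, ∃ s ∈ c.1, fw ((c.2.1.map lw).flatten) s = r := by decide +kernel

theorem lN0_eq : lN0 = ([0, 1, 0, 1, 0, 1, 0, 1].map lw).flatten := by decide +kernel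

theorem cartan_chk : (chevF4.cartan 0 33 = 2 ∧ chevF4.cartan 1 33 = -1 ∧ chevF4.cartan 2 33 = 0 ∧ chevF4.cartan 3 33 = 0) ∧
    (chevF4.cartan 0 27 = -1 ∧ chevF4.cartan 1 27 = 2 ∧ chevF4.cartan 2 27 = -1 ∧ chevF4.cartan 3 27 = 0) ∧
    (chevF4.cartan 0 25 = 0 ∧ chevF4.cartan 1 25 = -2 ∧ chevF4.cartan 2 25 = 2 ∧ chevF4.cartan 3 25 = -1) ∧
    (chevF4.cartan 0 24 = 0 ∧ chevF4.cartan 1 24 = 0 ∧ chevF4.cartan 2 24 = -1 ∧ chevF4.cartan 3 24 = 2) := by
  decide +kernel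

theorem noncomm_chk : ∀ j j', j ≠ j' → fw (lw j) (fw (lw j') 33) ≠ fw (lw j') (fw (lw j) 33) := by decide +kernel

/-- The entries of the Cartan matrix for root elements in the torus action. -/
theorem cartan_chk2 : chevF4.cartan 1 24 = 0 ∧ chevF4.cartan 2 24 = -1 ∧ chevF4.cartan 1 25 = -2 ∧ chevF4.cartan 2 25 = 2 ∧
    chevF4.cartan 1 28 = 0 ∧ chevF4.cartan 2 28 = 1 := by decide +kernel

theorem lt_chk : 33 < chevF4.nroots ∧ 27 < chevF4.nroots ∧ 25 < chevF4.nroots ∧ 24 < chevF4.nroots ∧ 28 < chevF4.nroots ∧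
    30 < chevF4.nroots := by decide +kernel

/-- Words representing the elements of the Weyl group. -/
def wordsW : List (List (Fin 2)) :=
  [[], [0], [1], [0, 1], [1, 0], [0, 1, 0], [1, 0, 1], [0, 1, 0, 1], [1, 0, 1, 0], [0, 1, 0, 1, 0], [1, 0, 1, 0, 1],
   [0, 1, 0, 1, 0, 1], [1, 0, 1, 0, 1, 0], [0, 1, 0, 1, 0, 1, 0], [1, 0, 1, 0, 1, 0, 1], [0, 1, 0, 1, 0, 1, 0, 1]]

/-- The action on the roots of a word in the fundamental reflections. -/
def fwl (l : List (Fin 2)) (r : ℕ) : ℕ := fw ((l.map lw).flatten) r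

theorem words_closed : ∀ i : Fin 2, ∀ l ∈ wordsW, ∃ l' ∈ wordsW, ∀ r < chevF4.nroots, fwl (i :: l) r = fwl l' r := by
  decide +kernel

theorem words_nodup : (wordsW.map fun l => (List.range chevF4.nroots).map (fwl l)).Nodup := by decide +kernel

/-- A word is reduced. -/
def redW : List (Fin 2) → Prop
  | [] => True
  | i :: l => (∀ r ∈ lr i, ∃ s < chevF4.nroots, chevF4.IsPosRoot s ∧ fwl l s = r) ∧ redW l

instance : DecidablePred redW := fun l => by
  induction l with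
  | nil => exact isTrue trivial
  | cons i l ih =>
    unfold redW
    exact inferInstance

theorem words_red : ∀ l ∈ wordsW, redW l := by decide +kernel

theorem ord_chk : (∀ r < chevF4.nroots, fwl [0, 1, 0, 1, 0, 1, 0, 1, 0, 1, 0, 1, 0, 1, 0, 1] r = r) ∧
    (∀ r < chevF4.nroots, fwl [1, 0, 1, 0, 1, 0, 1, 0, 1, 0, 1, 0, 1, 0, 1, 0] r = r) ∧
    (∃ r < chevF4.nroots, fwl [0, 1, 0, 1, 0, 1, 0, 1] r ≠ r) ∧
    (∃ r < chevF4.nroots, fwl [1, 0, 1, 0, 1, 0, 1, 0] r ≠ r) ∧ (∀ r < chevF4.nroots, fwl [0, 0] r = r) ∧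
    (∀ r < chevF4.nroots, fwl [1, 1] r = r) := by
  decide +kernel

end Cfsg.Agent.Lib.TF4
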