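import Mathlib
import Cfsg.Prelude.Def_LieTwisted
import Cfsg.Prelude.Def_ChevStructure

/-!
# Tables for the twisted group `²F₄`
-/

set_option autoImplicit false
set_option maxRecDepth 100000

namespace Cfsg.Agent.Lib.TF4

open Cfsg.Lie

/-- The permutation `ρ` of the roots of `F₄`. -/
def rhoL : List ℕ := [3, 7, 8, 0, 9, 11, 18, 1, 2, 4, 15, 5, 16, 21, 23, 10, 12, 19, 6, 17, 22, 13, 20, 14, 33, 27, 34, 25, 30, 41, 28, 35, 37, 24, 26, 31, 42, 32, 43, 45, 46, 29, 36, 38, 47, 39, 40, 44]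

/-- The permutation `ρ` of the roots of `F₄`. -/
def ρ0 (r : ℕ) : ℕ := rhoL.getD r r

/-- The short roots. -/
def shortL : List ℕ := [3, 7, 8, 9, 10, 11, 12, 13, 14, 18, 19, 20, 27, 28, 29, 33, 34, 35, 36, 37, 38, 39, 40, 44]

/-- Short roots. -/
def isShort (r : ℕ) : Bool := shortL.contains r

/-- The words moving a fundamental root to a root. -/
def wordT : List (ℕ × List ℕ) := [(2, [3, 2, 1, 2, 3, 0, 1, 2]), (2, [2, 1, 2, 3, 0, 1, 2]), (2, [1, 2, 3, 0, 1, 2]), (0, [0, 1, 2, 3, 1, 2, 1, 0]), (2, [2, 3, 0, 1, 2]), (2, [3, 0, 1, 2]), (2, [0, 1, 2]), (0, [1, 2, 3, 1, 2, 1, 0]), (0, [2, 3, 1, 2, 1, 0]), (0, [3, 1, 2, 1, 0]), (0, [1, 2, 1, 0]), (0, [3, 2, 1, 0]), (0, [2, 1, 0]), (0, [1, 0]), (0, [0]), (2, [2, 3, 1, 2]), (2, [3, 1, 2]), (2, [1, 2]), (1, [3, 2, 1]), (1, [2, 1]), (1, [1]), (2, [3, 2]), (2, [2]), (3, [3]), (3, []), (2, []), (2, [3]), (1, []), (1, [2]), (1, [3, 2]), (2, [1]), (2, [3, 1]), (2, [2, 3,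 1]), (0, []), (0, [1]), (0, [2, 1]), (0, [3, 2, 1]), (0, [1, 2, 1]), (0, [3, 1, 2, 1]), (0, [2, 3, 1, 2, 1]), (0, [1, 2, 3, 1, 2, 1]), (2, [0, 1]), (2, [3, 0, 1]), (2, [2, 3, 0, 1]), (0, [0, 1, 2, 3, 1, 2, 1]), (2, [1, 2, 3, 0, 1]), (2, [2, 1, 2, 3, 0, 1]), (2, [3, 2, 1, 2, 3, 0, 1])]

/-- The classes of positive roots. -/
def cl : List (List ℕ) := [[24, 33], [26, 34, 36, 42], [38, 43], [29, 41, 44, 47], [39, 45], [31, 35, 40, 46], [32, 37], [25, 27, 28, 30]]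

/-- The permutation of the fundamental roots. -/
def π0 (i : ℕ) : ℕ := 3 - i

theorem rho_lt : ∀ r < chevF4.nroots, ρ0 r < chevF4.nroots := by decide +kernel

theorem rho_neg : ∀ r < chevF4.nroots, ρ0 (chevF4.neg r) = chevF4.neg (ρ0 r) := by decide +kernel

theorem short_neg : ∀ r < chevF4.nroots, isShort (chevF4.neg r) = isShort r := by decide +kernel

theorem rho_reflect : ∀ i < chevF4.rank, ∀ r < chevF4.nroots,
    ρ0 (chevF4.reflectRoot i r) = chevF4.reflectRoot (π0 i) (ρ0 r) := by decide +kernel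

theorem short_reflect : ∀ i < chevF4.rank, ∀ r < chevF4.nroots,
    isShort (chevF4.reflectRoot i r) = isShort r := by decide +kernel

theorem rho_simple : ∀ i < chevF4.rank, ρ0 (chevF4.simple i) = chevF4.simple (π0 i) := by decide +kernel

theorem rho_pos : ∀ r ∈ chevF4.posRoots, chevF4.IsPosRoot (ρ0 r) := by decide +kernel

theorem word_chk : ∀ r < chevF4.nroots, (wordT.getD r (0, [])).1 < chevF4.rank ∧
    (∀ i ∈ (wordT.getD r (0, [])).2, i < chevF4.rank) ∧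
    (wordT.getD r (0, [])).2.foldr chevF4.reflectRoot (chevF4.simple (wordT.getD r (0, [])).1) = r := by
  decide +kernel

theorem short_simple : isShort (chevF4.simple 0) = true ∧ isShort (chevF4.simple 1) = true ∧
    isShort (chevF4.simple 2) = false ∧ isShort (chevF4.simple 3) = false := by decide +kernel

theorem rho_rho : ∀ r < chevF4.nroots, ρ0 (ρ0 r) = r := by decide +kernel

theorem short_rho : ∀ r < chevF4.nroots, isShort (ρ0 r) = !isShort r := by decide +kernel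

end Cfsg.Agent.Lib.TF4
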